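import Groth.Agent.P1Split.Basic
import Mathlib.Data.Fin.Tuple.Sort

/-!
Grothendieck's splitting theorem on the projective line over a field.
-/

set_option linter.style.haveILetI false
set_option linter.unusedSectionVars false
set_option backward.isDefEq.respectTransparency false
set_option backward.isDefEq.respectTransparency.types false
set_option synthInstance.maxHeartbeats 100000
set_option maxHeartbeats 800000

universe u

open CategoryTheory CategoryTheory.Limits AlgebraicGeometry TopologicalSpace Opposite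
open Groth.Agent.PnCoh.Finite (mapLin)

namespace Groth.Agent.P1Split

open Groth.Agent.CurveBundle Groth.Agent.CurveSlope Groth.Agent.CurveStable Groth.Agent.CurveDuality

section Cons

variable {C : Type*} [Category C] [Preadditive C] [HasBinaryBiproducts C] [HasFiniteCoproducts C]

/-- A coproduct over `Fin (r + 1)` as a biproduct. -/
noncomputable def consIso {r : ℕ} (f : Fin (r + 1) → C) : f 0 ⊞ (∐ fun i : Fin r => f i.succ) ≅ ∐ f where
  hom := biprod.desc (Sigma.ι f 0) (Sigma.desc fun i : Fin r => Sigma.ι f i.succ)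
  inv := Sigma.desc fun j => Fin.cases (motive := fun j => f j ⟶ _) biprod.inl
    (fun i : Fin r => Sigma.ι (fun i : Fin r => f i.succ) i ≫ biprod.inr) j
  hom_inv_id := by
    apply biprod.hom_ext'
    · rw [biprod.inl_desc_assoc, Sigma.ι_desc, Category.comp_id]
      rfl
    · rw [biprod.inr_desc_assoc, Category.comp_id]
      refine Sigma.hom_ext _ _ fun i => ?_
      rw [← Category.assoc, Sigma.ι_desc, Sigma.ι_desc]
      rfl
  inv_hom_id := by
    refine Sigma.hom_ext _ _ fun j => ?_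
    rw [← Category.assoc, Sigma.ι_desc, Category.comp_id]
    induction j using Fin.cases with
    | zero => exact biprod.inl_desc _ _
    | succ i =>
      simp only [Fin.cases_succ, Category.assoc, biprod.inr_desc, Sigma.ι_desc]

end Cons

theorem antitone_eq_of_card {r : ℕ} {d d' : Fin r → ℤ} (hd : Antitone d) (hd' : Antitone d')
    (h : ∀ n : ℤ, (Finset.univ.filter fun i => n ≤ d i).card = (Finset.univ.filter fun i => n ≤ d' i).card) :
    d = d' := by
  have key : ∀ (d : Fin r → ℤ), Antitone d → ∀ (n : ℤ) (i : Fin r),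
      n ≤ d i ↔ i.1 < (Finset.univ.filter fun j => n ≤ d j).card := by
    intro d hd n i
    constructor
    · intro hi
      have : Finset.Iic i ⊆ Finset.univ.filter fun j => n ≤ d j := fun j hj =>
        Finset.mem_filter.2 ⟨Finset.mem_univ _, hi.trans (hd (Finset.mem_Iic.1 hj))⟩
      have := Finset.card_le_card this
      rw [Fin.card_Iic] at this
      omega
    · intro hi
      by_contra hn
      have : (Finset.univ.filter fun j => n ≤ d j) ⊆ Finset.Iio i := fun j hj => by
        refine Finset.mem_Iio.2 (lt_of_not_ge fun hji => hn ?_)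
        exact (Finset.mem_filter.1 hj).2.trans (hd hji)
      have := Finset.card_le_card this
      rw [Fin.card_Iio] at this
      omega
  funext i
  refine le_antisymm ((key d' hd' _ i).2 ?_) ((key d hd _ i).2 ?_)
  · rw [← h]; exact (key d hd _ i).1 le_rfl
  · rw [h]; exact (key d' hd' _ i).1 le_rfl

variable (k : Type u) [Field k]

local notation "ℙ1" => CohB1.ProjSpace 1 k
local notation "T" => Twist.twistProjSpace 1 k

theorem isFinLocFree_of_iso {M N : (ℙ1).Modules} (e : M ≅ N) (h : FlatMod.IsFinLocFree M) :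
    FlatMod.IsFinLocFree N := fun x =>
  let ⟨U, n, hx, ⟨g⟩⟩ := h x
  ⟨U, n, hx, ⟨((Scheme.Modules.restrictFunctor U.ι).mapIso e).symm ≪≫ g⟩⟩

theorem free_coprod : ∀ (r : ℕ) (d : Fin r → ℤ), FlatMod.IsFinLocFree (∐ fun i => T (d i))
  | 0, d => by
    refine isFinLocFree_of_iso k (IsZero.iso ?_ ?_)
      (isFinLocFree_of_rank (SlopeBound.isFinLocFreeOfRank_freeMod (X := ℙ1) 0))
    · exact (IsZero.iff_id_eq_zero _).2 (Sigma.hom_ext _ _ fun i => i.elim0)
    · exact (IsZero.iff_id_eq_zero _).2 (Sigma.hom_ext _ _ fun i => i.elim0)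
  | r + 1, d => isFinLocFree_of_iso k (consIso fun i => T (d i))
      (KFlatLib.isFinLocFree_biprod (free_T k (d 0)) (free_coprod r fun i => d i.succ))

theorem finrank_h0_split_sc {X : Scheme.{u}} [X.Over (Spec (CommRingCat.of k))]
    [IsProper (X ↘ Spec (CommRingCat.of k))] (S : ShortComplex X.Modules) (hS : S.ShortExact)
    (s : S.X₃ ⟶ S.X₂) (hs : s ≫ S.g = 𝟙 _) (h2 : Coh.IsCoh S.X₂) :
    Module.finrank k (Coh.HH X S.X₂ 0) =
      Module.finrank k (Coh.HH X S.X₁ 0) + Module.finrank k (Coh.HH X S.X₃ 0) := by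
  have hsurj : Function.Surjective (mapLin k S.g 0) := fun y =>
    ⟨mapLin k s 0 y, by rw [FFun.mapLin_comp, hs, CurveDuality.mapLin_id]⟩
  have hinj : Function.Injective (mapLin k S.f 0) := CurveCohLib.mapLin_f_zero_injective k hS
  haveI := S0002.result k X S.X₂ h2 0
  have hsum := LinearMap.finrank_range_add_finrank_ker (mapLin k S.g 0)
  rw [CurveCohLib.ker_mapLin_g k hS 0, LinearMap.finrank_range_of_inj hinj,
    LinearMap.range_eq_top.2 hsurj, finrank_top] at hsum
  omega

theorem finrank_h0_split {X : Scheme.{u}} [X.Over (Spec (CommRingCat.of k))]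
    [IsProper (X ↘ Spec (CommRingCat.of k))] {A B C : X.Modules} {f : A ⟶ B} {g : B ⟶ C} {w : f ≫ g = 0}
    (hS : (ShortComplex.mk f g w).ShortExact) (s : C ⟶ B) (hs : s ≫ g = 𝟙 _) (h2 : Coh.IsCoh B) :
    Module.finrank k (Coh.HH X B 0) = Module.finrank k (Coh.HH X A 0) + Module.finrank k (Coh.HH X C 0) :=
  finrank_h0_split_sc k (ShortComplex.mk f g w) hS s hs h2

/-- Sections of twists are additive on biproducts. -/
theorem h0_twist_biprod {A B : (ℙ1).Modules} (hA : FlatMod.IsFinLocFree A) (hB : FlatMod.IsFinLocFree B)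
    (n : ℤ) :
    Module.finrank k (Coh.HH ℙ1 ((DCoh.tensorBi.obj (T n)).obj (A ⊞ B)) 0) =
      Module.finrank k (Coh.HH ℙ1 ((DCoh.tensorBi.obj (T n)).obj A) 0) +
      Module.finrank k (Coh.HH ℙ1 ((DCoh.tensorBi.obj (T n)).obj B) 0) := by
  have hS := CurveTensor.shortExact_tensor (free_T k n) (biprod.inl : A ⟶ A ⊞ B) biprod.snd biprod.inl_snd
    (ShortComplex.Splitting.ofHasBinaryBiproduct A B).shortExact
  have hc : Coh.IsCoh ((DCoh.tensorBi.obj (T n)).obj (A ⊞ B)) :=
    coh_of_free k (KFlatLib.isFinLocFree_tensor (free_T k n) (KFlatLib.isFinLocFree_biprod hA hB))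
  have hs : (DCoh.tensorBi.obj (T n)).map (biprod.inr : B ⟶ A ⊞ B) ≫
      (DCoh.tensorBi.obj (T n)).map (biprod.snd : A ⊞ B ⟶ B) = 𝟙 _ := by
    rw [← Functor.map_comp, biprod.inr_snd, CategoryTheory.Functor.map_id]
  exact finrank_h0_split k hS _ hs hc

theorem h0_twist_coprod (n : ℤ) : ∀ (r : ℕ) (d : Fin r → ℤ),
    (Module.finrank k (Coh.HH ℙ1 ((DCoh.tensorBi.obj (T n)).obj (∐ fun i => T (d i))) 0) : ℤ) =
      ∑ i, max 0 (d i + n + 1)
  | 0, d => by
    rw [Finset.univ_eq_empty, Finset.sum_empty, CurveCohLib.finrank_HH_zero_eq_zero_of_isZero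
      (Functor.map_isZero _ ((IsZero.iff_id_eq_zero _).2 (Sigma.hom_ext _ _ fun i => i.elim0)))]
    rfl
  | r + 1, d => by
    obtain ⟨e⟩ := nonempty_tensor_iso k n (d 0) (d 0 + n) (by ring)
    rw [← SlopeBound.finrank_h0_congr k ((DCoh.tensorBi.obj (T n)).mapIso (consIso fun i => T (d i))),
      h0_twist_biprod k (free_T k _) (free_coprod k r _) n, Nat.cast_add,
      h0_twist_coprod n r fun i => d i.succ, SlopeBound.finrank_h0_congr k e, h0_T, Fin.sum_univ_succ]

theorem unique_splitting {r : ℕ} {d d' : Fin r → ℤ} (hd : Antitone d) (hd' : Antitone d')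
    (e : (∐ fun i => T (d i)) ≅ ∐ fun i => T (d' i)) : d = d' := by
  refine antitone_eq_of_card hd hd' fun n => ?_
  have h : ∀ m : ℤ, ∑ i, max 0 (d i + m + 1) = ∑ i, max 0 (d' i + m + 1) := fun m => by
    rw [← h0_twist_coprod k m r d, ← h0_twist_coprod k m r d',
      SlopeBound.finrank_h0_congr k ((DCoh.tensorBi.obj (T m)).mapIso e)]
  have hc : ∀ d : Fin r → ℤ, ((Finset.univ.filter fun i => n ≤ d i).card : ℤ) =
      ∑ i, max 0 (d i + (-n) + 1) - ∑ i, max 0 (d i + (-n - 1) + 1) := fun d => by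
    rw [← Finset.sum_sub_distrib, Finset.card_filter, Nat.cast_sum]
    refine Finset.sum_congr rfl fun i _ => ?_
    split_ifs <;> push_cast <;> omega
  have := hc d
  rw [h, h, ← hc d'] at this
  exact_mod_cast this

/-- Existence of a splitting. -/
theorem exists_splitting : ∀ (r : ℕ) (E : (ℙ1).Modules), FlatMod.IsFinLocFreeOfRank r E →
    ∃ d : Fin r → ℤ, Nonempty (E ≅ ∐ fun i => T (d i)) := by
  intro r
  induction r with
  | zero =>
    intro E hE
    exact ⟨fun i => i.elim0, ⟨(isZero_of_rk_zero (isFinLocFree_of_rank hE) (rk_eq hE)).iso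
      ((IsZero.iff_id_eq_zero _).2 (Sigma.hom_ext _ _ fun i => i.elim0))⟩⟩
  | succ r ih =>
    intro E hE
    have hdim := dim_eq k
    have hEf := isFinLocFree_of_rank hE
    have hrE := rk_eq hE
    obtain ⟨L, j, hj, hL, hrL, hmax⟩ := exists_max_sub k hdim.le hEf (a := 1)
      (exists_sub_of_rank k hdim hEf 1 (by omega))
    haveI := hj
    have hL1 : FlatMod.IsFinLocFreeOfRank 1 L := by
      have h := isFinLocFreeOfRank_rk hL
      rwa [hrL] at h
    obtain ⟨em⟩ := nonempty_iso_T k (isInvertible_of_rank_one hL1)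
    obtain ⟨m, hm⟩ : ∃ m, Curv2.deg k ℙ1 L 1 = m := ⟨_, rfl⟩
    rw [hm] at em
    have hEc := coh_of_free k hEf
    have hLc := coh_of_free k hL
    have hQc : Coh.IsCoh (cokernel j) := QCoh.isCoh_cokernel hLc.1 hEc j
    have hS := shortExact_cokernel_of_mono j
    have hQ := isFinLocFree_of_max k hdim.le j (cokernel.π j) _ hS hLc hEf hQc
      (fun F g hg hF hrF => hmax F g hg hF (hrF.trans hrL))
    have hrQ : rk (cokernel j) = r := by
      have := rk_add_coh k _ _ _ hS hEc
      omega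
    obtain ⟨d, ⟨φ⟩⟩ := ih (cokernel j) (hrQ ▸ isFinLocFreeOfRank_rk hQ)
    -- no twist above the maximal one maps to the quotient
    have hle : ∀ i, d i ≤ m := fun i => by
      by_contra hi
      push Not at hi
      let ι' := Sigma.ι (fun i => T (d i)) i ≫ φ.inv
      obtain ⟨a0⟩ := nonempty_tensor_iso k (m + 1) (-(m + 1)) 0 (by ring)
      obtain ⟨a1⟩ := nonempty_tensor_iso k (-(m + 1)) (d i) (d i - (m + 1)) (by ring)
      obtain ⟨u⟩ := nonempty_T_zero k
      obtain ⟨t, ht⟩ : ∃ t : Coh.HH ℙ1 ((DCoh.tensorBi.obj (T (-(m + 1)))).obj (T (d i))) 0, t ≠ 0 := by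
        have h1 := h0_T k (d i - (m + 1))
        rw [← SlopeBound.finrank_h0_congr k a1, max_eq_right (by omega)] at h1
        haveI := Module.nontrivial_of_finrank_pos (R := k)
          (M := Coh.HH ℙ1 ((DCoh.tensorBi.obj (T (-(m + 1)))).obj (T (d i))) 0) (by omega)
        exact exists_ne 0
      let f := homOfTwist (a0 ≪≫ u) (T (d i)) t ≫ ι'
      have hf : f ≠ 0 := fun h0 => homOfTwist_ne_zero (a0 ≪≫ u) ht (by
        have := congrArg (fun z => z ≫ φ.hom ≫ Sigma.desc fun l =>
          if h : l = i then eqToHom (congrArg (fun x => T (d x)) h) else 0) h0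
        simpa [f, ι'] using this)
      obtain ⟨ψ, hψ⟩ := exists_lift k hS (m := m) em le_rfl f
      have hψ0 : ψ ≠ 0 := fun h0 => hf (by rw [← hψ, h0, zero_comp])
      have h1' := InvEnd.isFinLocFreeOfRank_one (isInvertible_T k (m + 1))
      haveI := CurveSection.mono_of_ne_zero k hdim.le (free_T k (m + 1)) (rk_eq h1') hEf ψ hψ0
      have := hmax _ ψ inferInstance (free_T k (m + 1)) (rk_eq h1')
      rw [← deg_eq_dg k h1', deg_T, ← deg_eq_dg k hL1, hm] at this
      omega
    choose σ hσ using fun i => exists_lift k hS (m := m) em (show d i ≤ m + 1 by have := hle i; omega)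
      (Sigma.ι (fun i => T (d i)) i ≫ φ.inv)
    let s : cokernel j ⟶ E := φ.hom ≫ Sigma.desc σ
    have hs : s ≫ cokernel.π j = 𝟙 _ := by
      have h2 : Sigma.desc σ ≫ cokernel.π j = φ.inv := Sigma.hom_ext _ _ fun i => by
        rw [← Category.assoc, Sigma.ι_desc]
        exact hσ i
      simp only [s, Category.assoc, h2, Iso.hom_inv_id]
    haveI : IsSplitEpi (cokernel.π j) := IsSplitEpi.mk' ⟨s, hs⟩
    let e : E ≅ L ⊞ cokernel j := (ShortComplex.Splitting.ofExactOfSection _ hS.exact
      (section_ (cokernel.π j)) (IsSplitEpi.id _) inferInstance).isoBinaryBiproduct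
    exact ⟨Fin.cons m d, ⟨e ≪≫ biprod.mapIso em φ ≪≫ consIso fun i => T ((Fin.cons m d : Fin (r + 1) → ℤ) i)⟩⟩

theorem existsUnique_splitting {r : ℕ} (E : (ℙ1).Modules) (hE : FlatMod.IsFinLocFreeOfRank r E) :
    ∃! d : Fin r → ℤ, Antitone d ∧ Nonempty (E ≅ ∐ fun i => T (d i)) := by
  obtain ⟨d, ⟨e⟩⟩ := exists_splitting k r E hE
  let π : Equiv.Perm (Fin r) := Tuple.sort fun i => -d i
  have hmono : Monotone ((fun i => -d i) ∘ π) := Tuple.monotone_sort _
  refine ⟨d ∘ π, ⟨fun a b h => neg_le_neg_iff.1 (hmono h),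
    ⟨e ≪≫ (Sigma.whiskerEquiv (f := fun i => T (d (π i))) (g := fun i => T (d i)) π fun i => Iso.refl _).symm⟩⟩, ?_⟩
  rintro d' ⟨hd', ⟨e'⟩⟩
  exact unique_splitting k hd' (fun a b h => neg_le_neg_iff.1 (hmono h)) (e'.symm ≪≫ e ≪≫
    (Sigma.whiskerEquiv (f := fun i => T (d (π i))) (g := fun i => T (d i)) π fun i => Iso.refl _).symm)

end Groth.Agent.P1Split
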