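import Groth.Agent.SlopeBound.Sect
import Groth.Agent.CurveEmbed.P1
import Groth.Agent.CurveEmbed.Conic
import Groth.Agent.PnCoh.Finite.TwistInv
import Groth.Agent.S10829
import Groth.Agent.S7810

/-!
Invertible modules on the projective line over a field, and lifting of maps between twists.
-/

set_option linter.style.haveILetI false
set_option linter.unusedSectionVars false
set_option backward.isDefEq.respectTransparency false
set_option backward.isDefEq.respectTransparency.types false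
set_option synthInstance.maxHeartbeats 100000

universe u

open CategoryTheory CategoryTheory.Limits AlgebraicGeometry TopologicalSpace Opposite
open Groth.Agent.PnCoh.Finite (mapLin)

namespace Groth.Agent.P1Split

open Groth.Agent.CurveBundle Groth.Agent.CurveSlope Groth.Agent.CurveStable Groth.Agent.CurveDuality

variable (k : Type u) [Field k]

local notation "ℙ1" => CohB1.ProjSpace 1 k
local notation "T" => Twist.twistProjSpace 1 k

/-- The projective line over `k`. -/
noncomputable instance overSpec : (ℙ1 : Scheme.{u}).Over (Spec (CommRingCat.of k)) := ⟨CohB1.ProjSpace.toSpec 1 k⟩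

instance isIntegral : IsIntegral ℙ1 := H23.PnChart.isIntegral_projSpace 1 k

instance isProper : IsProper (ℙ1 ↘ Spec (CommRingCat.of k)) := PnCoh.Chow.isProper_toSpec 1 k

instance smooth : Smooth (ℙ1 ↘ Spec (CommRingCat.of k)) := CurveEmbed.smooth_toSpec 1 k

theorem dim_eq : topologicalKrullDim ↥(ℙ1) = 1 := by simpa using S10829.result k 1

theorem h0_structure : Module.finrank k (Coh.HH ℙ1 (Coh.structureModule ℙ1) 0) = 1 :=
  (S7810.projLine_facts k).1

theorem genus_eq : Curv2.genus k ℙ1 = 0 := (S7810.projLine_facts k).2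

instance isNoetherian : IsNoetherian ℙ1 := CurveCohLib.isNoetherian_of_proper (k := k)

theorem euler_structure : Curv2.euler k ℙ1 (Coh.structureModule ℙ1) = 1 := by
  rw [CurveDuality.euler_structure k (h0_structure k) (dim_eq k), genus_eq k]
  norm_num

theorem hcov : ⨆ j : ULift.{u} (Fin (1 + 1)),
    PnCoh.Finite.D (CohB1.polyGrading 1 k) (MvPolynomial.X j.down) = ⊤ := by
  refine top_le_iff.1 ((AmpleEmbed.iSup_basicOpen_X 1 k).ge.trans (iSup_le fun j => ?_))
  exact le_iSup_of_le (ULift.up j) le_rfl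

theorem isInvertible_T (d : ℤ) : PicF.IsInvertible (T d) :=
  PnCoh.Finite.isInvertible_twist (fun j : ULift.{u} (Fin (1 + 1)) => MvPolynomial.X j.down)
    (fun j => ProjPt.X_mem j.down) (hcov k) d

theorem free_T (d : ℤ) : FlatMod.IsFinLocFree (T d) :=
  isFinLocFree_of_rank (InvEnd.isFinLocFreeOfRank_one (isInvertible_T k d))

theorem nonempty_tensor_iso (a b c : ℤ) (h : a + b = c) :
    Nonempty ((DCoh.tensorBi.obj (T a)).obj (T b) ≅ T c) := by
  subst h
  exact PnCoh.Finite.twist_tensor_iso (fun j : ULift.{u} (Fin (1 + 1)) => MvPolynomial.X j.down)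
    (fun j => ProjPt.X_mem j.down) (hcov k) a b

theorem nonempty_T_zero : Nonempty (T 0 ≅ Coh.structureModule ℙ1) := by
  obtain ⟨e⟩ := PnCoh.Finite.twist_tensorPow_iso (fun j : ULift.{u} (Fin (1 + 1)) => MvPolynomial.X j.down)
    (fun j => ProjPt.X_mem j.down) (hcov k) 0
  exact ⟨e⟩

theorem h0_T_nat (d : ℕ) : Module.finrank k (Coh.HH ℙ1 (T (d : ℤ)) 0) = d + 1 := by
  obtain ⟨φ⟩ := S0843.result k 1 d
  exact φ.finrank_eq.trans (CurveEmbed.finrank_binary k d)

theorem h1_T (d : ℤ) (hd : -1 ≤ d) : Subsingleton (Coh.HH ℙ1 (T d) 1) :=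
  S0844.result k 1 d 1 (fun h => absurd h.1 one_ne_zero) (fun h => by have := h.2; push_cast at this; omega)

theorem h0_T (d : ℤ) : (Module.finrank k (Coh.HH ℙ1 (T d) 0) : ℤ) = max 0 (d + 1) := by
  rcases le_or_gt 0 d with h | h
  · obtain ⟨n, rfl⟩ := Int.eq_ofNat_of_zero_le h
    rw [h0_T_nat k n, max_eq_right (by omega)]
    push_cast
    rfl
  · haveI := S0844.result k 1 d 0 (fun h' => by omega) (fun h' => absurd h'.1 (by norm_num))
    rw [Module.finrank_zero_of_subsingleton, max_eq_left (by omega)]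
    rfl

theorem deg_T (d : ℤ) : Curv2.deg k ℙ1 (T d) 1 = d := by
  have hadd : ∀ a b : ℤ, Curv2.deg k ℙ1 (T (a + b)) 1 = Curv2.deg k ℙ1 (T a) 1 + Curv2.deg k ℙ1 (T b) 1 := by
    intro a b
    obtain ⟨e⟩ := nonempty_tensor_iso k a b (a + b) rfl
    rw [← CurveRR.deg_congr k e, CurveRR.deg_tensor k (dim_eq k) (isInvertible_T k a) (isInvertible_T k b)]
  have h0 : Curv2.deg k ℙ1 (T 0) 1 = 0 := by have := hadd 0 0; rw [add_zero] at this; omega
  have h1 : Curv2.deg k ℙ1 (T 1) 1 = 1 := by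
    have hc := coh_of_free k (free_T k 1)
    haveI := h1_T k 1 (by norm_num)
    unfold Curv2.deg
    rw [euler_structure k, CurveRR.euler_eq_h0_sub_h1 k (dim_eq k).le hc.1, h0_T k 1,
      Module.finrank_zero_of_subsingleton (R := k) (M := Coh.HH ℙ1 (T 1) 1)]
    norm_num
  induction d using Int.induction_on with
  | zero => exact h0
  | succ i ih => rw [hadd, ih, h1]
  | pred i ih =>
    have := hadd (-(i : ℤ) - 1) 1
    rw [sub_add_cancel, ih, h1] at this
    omega

/-- Every invertible module on the line is a twist. -/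
theorem nonempty_iso_T {L : (ℙ1).Modules} (hL : PicF.IsInvertible L) :
    Nonempty (L ≅ T (Curv2.deg k ℙ1 L 1)) := by
  obtain ⟨d, hd⟩ : ∃ d, Curv2.deg k ℙ1 L 1 = d := ⟨_, rfl⟩
  rw [hd]
  obtain ⟨e0⟩ := nonempty_tensor_iso k d (-d) 0 (by ring)
  obtain ⟨u⟩ := nonempty_T_zero k
  let M := (DCoh.tensorBi.obj (T (-d))).obj L
  have hM : PicF.IsInvertible M := InvX.isInvertible_tensorMod (isInvertible_T k (-d)) hL
  have hdM : Curv2.deg k ℙ1 M 1 = 0 := by
    rw [CurveRR.deg_tensor k (dim_eq k) (isInvertible_T k (-d)) hL, deg_T, hd]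
    ring
  have hMc := CurveDeg.isCoh_of_isInvertible hM
  obtain ⟨s, hs⟩ := CurveRR.exists_hom_ne_zero k (P := M) (by
    have h1 := euler_le_h0 k (dim_eq k).le hMc
    have h2 : Curv2.euler k ℙ1 M = 1 := by
      unfold Curv2.deg at hdM
      rw [euler_structure k] at hdM
      push_cast at hdM
      omega
    omega)
  haveI := (CurveDeg.deg_le_and_isIso k (dim_eq k).le CurveDeg.isInvertible_structureModule hM s hs).2
    (by rw [CurveDeg.deg_structureModule, hdM])
  exact ⟨((CurveRR.cancelIso (e0 ≪≫ u)).app L).symm ≪≫ (DCoh.tensorBi.obj (T d)).mapIso (asIso s).symm ≪≫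
    KFlatLib.tensorUnitIso (T d)⟩

/-- Maps from a twist into the quotient of an extension by a twist lift, if the twist is not too big. -/
theorem exists_lift {S : ShortComplex (ℙ1).Modules} (hS : S.ShortExact) {m a : ℤ}
    (em : S.X₁ ≅ T m) (ha : a ≤ m + 1) (φ₀ : T a ⟶ S.X₃) : ∃ ψ : T a ⟶ S.X₂, ψ ≫ S.g = φ₀ := by
  obtain ⟨e0⟩ := nonempty_tensor_iso k a (-a) 0 (by ring)
  obtain ⟨e0'⟩ := nonempty_tensor_iso k (-a) a 0 (by ring)
  obtain ⟨u⟩ := nonempty_T_zero k
  obtain ⟨e1⟩ := nonempty_tensor_iso k (-a) m (m - a) (by ring)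
  let w : T a ⟶ T a := (KFlatLib.tensorUnitIso (T a)).inv ≫ (DCoh.tensorBi.obj (T a)).map (e0' ≪≫ u).inv ≫
    (CurveRR.cancelIso (e0 ≪≫ u)).hom.app (T a)
  let φ : T a ⟶ S.X₃ := inv w ≫ φ₀
  have hT := CurveTensor.shortExact_tensor (free_T k (-a)) S.f S.g S.zero hS
  have h1 : Subsingleton (Coh.HH ℙ1 ((DCoh.tensorBi.obj (T (-a))).obj S.X₁) 1) := by
    haveI := h1_T k (m - a) (by omega)
    exact (CurveCohLib.hhEquiv (k := k)
      ((DCoh.tensorBi.obj (T (-a))).mapIso em ≪≫ e1) 1).toEquiv.injective.subsingleton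
  obtain ⟨y, hy⟩ := CurveRR.exists_lift_of_HH_one hT h1
    ((e0' ≪≫ u).inv ≫ (DCoh.tensorBi.obj (T (-a))).map φ)
  refine ⟨(KFlatLib.tensorUnitIso (T a)).inv ≫ (DCoh.tensorBi.obj (T a)).map y ≫
    (CurveRR.cancelIso (e0 ≪≫ u)).hom.app S.X₂, ?_⟩
  have hnat : ∀ {A B : (ℙ1).Modules} (f : A ⟶ B),
      (DCoh.tensorBi.obj (T a)).map ((DCoh.tensorBi.obj (T (-a))).map f) ≫
        (CurveRR.cancelIso (e0 ≪≫ u)).hom.app B =
      (CurveRR.cancelIso (e0 ≪≫ u)).hom.app A ≫ f := fun f =>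
    (CurveRR.cancelIso (e0 ≪≫ u)).hom.naturality f
  have e2 : ((KFlatLib.tensorUnitIso (T a)).inv ≫ (DCoh.tensorBi.obj (T a)).map y ≫
      (CurveRR.cancelIso (e0 ≪≫ u)).hom.app S.X₂) ≫ S.g = w ≫ φ := by
    simp only [w, Category.assoc]
    rw [← hnat S.g]
    erw [← hnat φ]
    rw [← Functor.map_comp_assoc, ← Functor.map_comp_assoc]
    exact congrArg (fun z => (KFlatLib.tensorUnitIso (T a)).inv ≫ (DCoh.tensorBi.obj (T a)).map z ≫
      (CurveRR.cancelIso (e0 ≪≫ u)).hom.app S.X₃) hy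
  rw [e2]
  exact IsIso.hom_inv_id_assoc w φ₀

end Groth.Agent.P1Split
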